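import Groth.Agent.H64.Quot.ActSq
import Groth.Agent.H64.Psh.PProps
import Groth.Agent.H50.AffineMor
import Groth.Agent.H51.SpAffine
import Groth.Agent.S10533

set_option autoImplicit false
set_option backward.isDefEq.respectTransparency false
universe u
open CategoryTheory CategoryTheory.Limits MonoidalCategory CartesianMonoidalCategory MonObj GrpObj
  AlgebraicGeometry

/-! Affine morphisms of sheaves versus schemes, and the morphism `(act, pr₂) : G × X ⟶ X × X`. -/

namespace Groth.Agent.H64.Aff

open AlgSp Groth.Agent.H64.PTh Groth.Agent.H64.Quot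

variable {S : Scheme.{u}}

theorem isAffineMor_iff_repWith {X Y : Sp S} (f : X ⟶ Y) :
    IsAffineMor f ↔ RepWith @IsAffineHom f := by
  rw [← Groth.Agent.H51.affine_test_iff_repWith @IsAffineHom (fun g hg => hg) f]
  constructor
  · intro h Z hZ g
    obtain ⟨W, i, fst, sq, hW⟩ := h hZ g
    have : IsAffine W.left := hW
    have : IsAffine Z.left := hZ
    exact ⟨W, i, fst, sq, hW, inferInstanceAs (IsAffineHom i.left)⟩
  · intro h Z hZ g
    obtain ⟨W, i, fst, sq, hW, -⟩ := h hZ g
    exact ⟨W, i, fst, sq, hW⟩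

theorem isAffineMor_yon_map_iff {A B : Over S} (m : A ⟶ B) :
    IsAffineMor ((yon S).map m) ↔ IsAffineHom m.left :=
  (isAffineMor_iff_repWith _).trans (repWith_yon_map_iff @IsAffineHom m)

theorem stableBC_isAffineMor : StableBC (IsAffineMor (S := S)) :=
  fun _ _ _ _ _ _ _ _ _ _ _ _ sq h => Groth.Agent.H50.isAffineMor_of_isPullback sq h

theorem isLocalOnBase_fppf_isAffineMor :
    IsLocalOnBase (IsFppfCover (S := S)) IsAffineMor :=
  isLocalOnBase_fppf_of_fpqc (Groth.Agent.S10533.result S)

instance isAffineMor_respectsIso : (IsAffineMor (S := S)).RespectsIso := by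
  apply MorphismProperty.RespectsIso.mk
  · intro X Y Z e f hf
    exact Groth.Agent.H50.isAffineMor_of_iso_comp e hf
  · intro X Y Z e f hf
    have sq : IsPullback (𝟙 X) (f ≫ e.hom) f e.inv :=
      IsPullback.of_horiz_isIso ⟨by simp⟩
    exact Groth.Agent.H50.isAffineMor_of_isPullback sq hf

variable {G : Over S} [GrpObj G] {X : Over S} (aX : AlgGrp.Action G X)

/-- the morphism `(g, x) ↦ (g x, x)` -/
noncomputable abbrev actSnd : G ⊗ X ⟶ X ⊗ X := lift aX.act (snd G X)

theorem isAffineHom_actSnd_of_diagonal [IsAffineHom G.hom]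
    (h : IsAffineHom (pullback.diagonal X.hom)) : IsAffineHom (actSnd aX).left := by
  have h1 : (actSnd aX).left ≫ (snd X X).left = (snd G X).left := by
    rw [← Over.comp_left, lift_snd]
  have h2 : IsAffineHom ((actSnd aX).left ≫ (snd X X).left) := by
    rw [h1]
    exact MorphismProperty.pullback_snd (P := @IsAffineHom.{u}) G.hom X.hom inferInstance
  have h3 : (MorphismProperty.diagonal @IsAffineHom.{u}) (snd X X).left :=
    MorphismProperty.of_isPullback (P := (MorphismProperty.diagonal @IsAffineHom.{u}))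
      (IsPullback.of_hasPullback X.hom X.hom) h
  have : MorphismProperty.HasOfPostcompProperty @IsAffineHom.{u}
      (MorphismProperty.diagonal @IsAffineHom.{u}) :=
    MorphismProperty.hasOfPostcompProperty_iff_le_diagonal.mpr le_rfl
  exact MorphismProperty.of_postcomp (W := @IsAffineHom) _ (snd X X).left h3 h2

theorem diagonal_of_isAffineHom_actSnd [IsAffineHom G.hom]
    (h : IsAffineHom (actSnd aX).left) : IsAffineHom (pullback.diagonal X.hom) := by
  let σ : X ⟶ G ⊗ X := lift (1 : X ⟶ G) (𝟙 X)
  have hσ : σ ≫ actSnd aX = lift (𝟙 X) (𝟙 X) := by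
    apply CartesianMonoidalCategory.hom_ext
    · rw [Category.assoc, lift_fst, lift_fst]
      exact act_one_pt aX (𝟙 X)
    · rw [Category.assoc, lift_snd, lift_snd, lift_snd]
  have hΔ : pullback.diagonal X.hom = σ.left ≫ (actSnd aX).left := by
    rw [← Over.comp_left, hσ]
    apply pullback.hom_ext
    · rw [pullback.diagonal_fst]
      exact (congrArg Over.Hom.left (lift_fst (𝟙 X) (𝟙 X))).symm
    · rw [pullback.diagonal_snd]
      exact (congrArg Over.Hom.left (lift_snd (𝟙 X) (𝟙 X))).symm
  have h1 : σ.left ≫ (snd G X).left = 𝟙 _ := by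
    rw [← Over.comp_left, lift_snd]
    rfl
  have h2 : IsAffineHom (snd G X).left :=
    MorphismProperty.pullback_snd (P := @IsAffineHom.{u}) G.hom X.hom inferInstance
  have h3 : IsAffineHom (σ.left ≫ (snd G X).left) := by
    rw [h1]
    infer_instance
  have h4 : IsAffineHom σ.left := IsAffineHom.of_comp σ.left (snd G X).left
  rw [hΔ]
  infer_instance

end Groth.Agent.H64.Aff
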