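import Groth.Agent.H64.Aff.ProdEquiv
import Groth.Agent.H64.Aff.SchemeLemmas
import Groth.Agent.H64.Fib.DiagSquare
import Groth.Agent.H65.AlgStCmp

set_option autoImplicit false
universe v₅ u₅ v₃ u₃ v₂ u₂ v u
open CategoryTheory CategoryTheory.Limits MonoidalCategory CartesianMonoidalCategory
  AlgebraicGeometry Opposite

/-! The comparison `X ×_{[X/G]} X ⟶ X ×_{(Sch/S)} X` is the morphism `(act, pr₂) : G × X ⟶ X × X`. -/

namespace Groth.Agent.H64.Aff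

open AlgSt Groth.Agent.H32 Groth.Agent.H64 Groth.Agent.H64.Recog Groth.Agent.H64.Quot
  Groth.Agent.H65.AlgStCmp

section general

variable {C : Type u} [Category.{v} C] {𝒳 : BasedCategory.{v₂, u₂} C}
  {𝒴 : BasedCategory.{v₃, u₃} C} {𝒜 : BasedCategory.{v₅, u₅} C}
  (f : 𝒳 ⥤ᵇ FibCat.selfOver C) (g : 𝒴 ⥤ᵇ FibCat.selfOver C)

theorem lift_id_of_eq' {𝒵 : BasedCategory.{v₅, u₅} C} {S S' : C} (h : S' = S) {a b : 𝒵.obj}
    {φ : a ⟶ b} (hφ : 𝒵.p.IsHomLift (𝟙 S') φ) : 𝒵.p.IsHomLift (𝟙 S) φ := by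
  subst h
  exact hφ

/-- functors into a 2-fibre product over the base category with isomorphic components are
isomorphic -/
theorem nonempty_iso_fp_self {G H : 𝒜 ⥤ᵇ FibCat.fp f g}
    (e₁ : BasedFunctor.comp G (FibCat.fpFst f g) ≅ BasedFunctor.comp H (FibCat.fpFst f g))
    (e₂ : BasedFunctor.comp G (FibCat.fpSnd f g) ≅ BasedFunctor.comp H (FibCat.fpSnd f g)) :
    Nonempty (G ≅ H) := by
  refine ⟨fpFunctorIsoMk f g e₁ e₂ (fun a => ?_)⟩
  have h1 : (FibCat.selfOver C).p.IsHomLift (𝟙 (𝒜.p.obj a)) (f.map (bapp e₁.hom a)) := by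
    have : 𝒳.p.IsHomLift (𝟙 (𝒜.p.obj a)) (bapp e₁.hom a) := bapp_isHomLift e₁.hom a
    exact BasedFunctor.preserves_isHomLift f _ _
  have h2 : (FibCat.selfOver C).p.IsHomLift (𝟙 (𝒜.p.obj a)) (g.map (bapp e₂.hom a)) := by
    have : 𝒴.p.IsHomLift (𝟙 (𝒜.p.obj a)) (bapp e₂.hom a) := bapp_isHomLift e₂.hom a
    exact BasedFunctor.preserves_isHomLift g _ _
  have h3 : (FibCat.selfOver C).p.IsHomLift (𝟙 (𝒜.p.obj a)) (H.obj a).obj.iso.hom :=
    lift_id_of_eq' (H.w_obj a) (fp_iso_isHomLift f g (H.obj a))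
  have h4 : (FibCat.selfOver C).p.IsHomLift (𝟙 (𝒜.p.obj a)) (G.obj a).obj.iso.hom :=
    lift_id_of_eq' (G.w_obj a) (fp_iso_isHomLift f g (G.obj a))
  have hL := lift_id_comp_id (FibCat.selfOver C).p h1 h3
  have hR := lift_id_comp_id (FibCat.selfOver C).p h4 h2
  exact @Groth.Agent.H26.self_hom_ext _ _ _ _ (𝟙 (𝒜.p.obj a)) _ _ _ _ hL hR

end general

variable {S : Scheme.{u}} {K : Precoverage Scheme.{u}} [K.HasIsos] {G : Over S} [GrpObj G]
  {X : Over S} (aX : AlgGrp.Action G X)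

/-- the comparison square for `X ⟶ [X/G] ⟶ (Sch/S)` -/
theorem nonempty_actSnd_square :
    Nonempty (BasedFunctor.comp (ofSpMap ((AlgSp.yon S).map (actSnd aX)))
        (prodLift X X (BasedFunctor.comp (quotMap K G aX) (FibCat.toSelf (QuotSt K G aX)))
          (BasedFunctor.comp (quotMap K G aX) (FibCat.toSelf (QuotSt K G aX)))) ≅
      BasedFunctor.comp (actLift K aX)
        (cmp (quotMap K G aX) (quotMap K G aX) (FibCat.toSelf (QuotSt K G aX)))) := by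
  apply nonempty_iso_fp_self
  · apply Nonempty.some
    apply nonempty_biso_of_bsec_eq
    intro a
    obtain ⟨T, ⟨s⟩⟩ := a
    change T ⟶ G ⊗ X at s
    apply ULift.ext
    show 𝟙 T ≫ (s ≫ actSnd aX) ≫ fst X X = 𝟙 T ≫ s ≫ aX.act
    rw [Category.assoc, lift_fst]
  · apply Nonempty.some
    apply nonempty_biso_of_bsec_eq
    intro a
    obtain ⟨T, ⟨s⟩⟩ := a
    change T ⟶ G ⊗ X at s
    apply ULift.ext
    show 𝟙 T ≫ (s ≫ actSnd aX) ≫ snd X X = 𝟙 T ≫ s ≫ snd G X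
    rw [Category.assoc, lift_snd]

end Groth.Agent.H64.Aff
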