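import Groth.Agent.H64.Aff.Main
import Groth.Agent.H64.Aff.Square
import Groth.Agent.H64.Psh.DiagIff
import Groth.Agent.H64.Psh.PDescent2
import Groth.Agent.H65.AlgStCmpM
import Groth.Agent.H64.Quot.RepQuotMap2
import Groth.Agent.S12836

set_option autoImplicit false
universe v₃ u₃ v₂ u₂ v u
open CategoryTheory CategoryTheory.Limits MonoidalCategory CartesianMonoidalCategory
  AlgebraicGeometry Opposite

/-! The diagonal of the quotient stack `[X/G]` is affine iff `(act, pr₂) : G × X ⟶ X × X` is. -/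

namespace Groth.Agent.H64.Aff

open AlgSt Groth.Agent.H32 Groth.Agent.H64 Groth.Agent.H64.Recog Groth.Agent.H64.Quot
  Groth.Agent.H64.PTh Groth.Agent.H64.FpRep Groth.Agent.H65.AlgStCmp
  Groth.Agent.H65.AlgStChartCalc

section general

variable {C : Type u} [Category.{v} C] {𝒳 : BasedCategory.{v₂, u₂} C}
  {𝒮 : BasedCategory.{v₃, u₃} C}

theorem diag_faithful (t : 𝒳 ⥤ᵇ 𝒮) : (FibCat.diag t).toFunctor.Faithful :=
  ⟨fun {_ _} _ _ h => congrArg (fun s => s.hom.fst) h⟩

theorem isPrestack_of_isStack {J : GrothendieckTopology C} (h : Stk.IsStack J 𝒳) :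
    Stk.IsPrestack J 𝒳 :=
  ⟨h.1, fun _ R hR => by
    have : (Stk.resSieve R 𝒳).IsEquivalence := h.2 R hR
    exact ⟨inferInstance, inferInstance⟩⟩

end general

variable {S : Scheme.{u}} (G : Over S) [GrpObj G] (X : Over S) (aX : AlgGrp.Action G X)

theorem repByAlgSpWith_cmp_iff {K : Precoverage Scheme.{u}} [K.HasIsos] :
    RepByAlgSpWith AlgSp.IsAffineMor
        (cmp (quotMap K G aX) (quotMap K G aX) (FibCat.toSelf (QuotSt K G aX))) ↔
      IsAffineHom (actSnd aX).left := by
  obtain ⟨e⟩ := nonempty_actSnd_square (K := K) aX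
  have hE := isEquivOver_prodLift X X
    (BasedFunctor.comp (quotMap K G aX) (FibCat.toSelf (QuotSt K G aX)))
    (BasedFunctor.comp (quotMap K G aX) (FibCat.toSelf (QuotSt K G aX)))
  have hA : FibCat.IsEquivOver (actLift K aX) := isTwoCartOver_act_snd aX
  let δ : yonSpace (G ⊗ X) ⟶ yonSpace (X ⊗ X) :=
    ObjectProperty.homMk ((AlgSp.yon S).map (actSnd aX))
  constructor
  · intro h
    have h1 : RepByAlgSpWith AlgSp.IsAffineMor (ofSpMap ((AlgSp.yon S).map (actSnd aX))) :=
      repByAlgSpWith_of_square AlgSp.IsAffineMor _ _ (actLift K aX) _ hA hE e h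
    have h2 : AlgSp.IsAffineMor δ.hom :=
      prop_of_repByAlgSpWith_ofSpMap isLocalOnBase_fppf_isAffineMor δ h1
    exact (isAffineMor_yon_map_iff (actSnd aX)).1 h2
  · intro h
    have h2 : AlgSp.IsAffineMor δ.hom := (isAffineMor_yon_map_iff (actSnd aX)).2 h
    have h1 : RepByAlgSpWith AlgSp.IsAffineMor (ofSpMap δ.hom) :=
      repByAlgSpWith_ofSpMap stableBC_isAffineMor δ h2
    exact repByAlgSpWith_of_square' AlgSp.IsAffineMor _ _ (actLift K aX) _ hA hE e h1

theorem quotMap_flat' [Flat G.hom] :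
    RepByAlgSpWith (AlgSp.LocP @Flat) (quotMap Scheme.fppfPrecoverage G aX) :=
  haveI : IsZariskiLocalAtTarget @Flat.{u} :=
    HasRingHomProperty.instIsZariskiLocalAtTarget (P := @Flat) (Q := RingHom.Flat)
  repByAlgSpWith_quotMap @Flat Groth.Agent.H40.flat_descendsAlong inferInstance _
    (fun f hf => Groth.Agent.H50.goodClass_flat.locP_yon_map f hf)

theorem quotMap_lfp' [LocallyOfFinitePresentation G.hom] :
    RepByAlgSpWith (AlgSp.LocP @LocallyOfFinitePresentation)
      (quotMap Scheme.fppfPrecoverage G aX) :=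
  haveI : IsZariskiLocalAtTarget @LocallyOfFinitePresentation.{u} :=
    HasRingHomProperty.instIsZariskiLocalAtTarget (P := @LocallyOfFinitePresentation)
      (Q := RingHom.FinitePresentation)
  repByAlgSpWith_quotMap @LocallyOfFinitePresentation inferInstance inferInstance _
    (fun f hf => Groth.Agent.H50.goodClass_lfp.locP_yon_map f hf)

theorem quotMap_surjective' :
    RepByAlgSpWith AlgSp.IsSurjectiveMor (quotMap Scheme.fppfPrecoverage G aX) :=
  repByAlgSpWith_quotMap @Surjective inferInstance (surjective_hom_of_grpObj G) _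
    (fun f hf => by
      have : Surjective f.left := hf
      exact Groth.Agent.H64.PTh.isSurjectiveMor_yon_map f)

/-- the diagonal of `[X/G]` is affine iff `(act, pr₂)` is -/
theorem repByAlgSpWith_diag_quotSt_iff_actSnd [IsAffineHom G.hom] [Flat G.hom]
    [LocallyOfFinitePresentation G.hom] :
    RepByAlgSpWith AlgSp.IsAffineMor
        (FibCat.diag (FibCat.toSelf (QuotSt Scheme.fppfPrecoverage G aX))) ↔
      IsAffineHom (actSnd aX).left := by
  rw [← repByAlgSpWith_cmp_iff G X aX (K := Scheme.fppfPrecoverage)]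
  have hst : Stk.IsStack (AlgSp.J S) (QuotSt Scheme.fppfPrecoverage G aX) :=
    Groth.Agent.S12836.result S G X aX
  have h𝒰 : FibCat.IsFibGrpd (ofSch X).p := (isFibSetoid_ofPsh _).1
  have h𝒯 : FibCat.IsFibGrpd (FibCat.selfOver (Over S)).p := isFibGrpd_selfOver _
  have hΛ := isEquivOver_cmpΛ (quotMap Scheme.fppfPrecoverage G aX)
    (quotMap Scheme.fppfPrecoverage G aX)
    (FibCat.toSelf (QuotSt Scheme.fppfPrecoverage G aX)) h𝒰 h𝒰 hst.1 h𝒯
  constructor
  · intro h
    have h' := repByAlgSpWith_fpFst AlgSp.IsAffineMor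
      (FibCat.diag (FibCat.toSelf (QuotSt Scheme.fppfPrecoverage G aX)))
      (cmpM (quotMap Scheme.fppfPrecoverage G aX) (quotMap Scheme.fppfPrecoverage G aX)
        (FibCat.toSelf (QuotSt Scheme.fppfPrecoverage G aX))) h
    exact repByAlgSpWith_of_square AlgSp.IsAffineMor _
      (cmp (quotMap Scheme.fppfPrecoverage G aX) (quotMap Scheme.fppfPrecoverage G aX)
        (FibCat.toSelf (QuotSt Scheme.fppfPrecoverage G aX)))
      (cmpΛ (quotMap Scheme.fppfPrecoverage G aX) (quotMap Scheme.fppfPrecoverage G aX)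
        (FibCat.toSelf (QuotSt Scheme.fppfPrecoverage G aX)))
      (BasedFunctor.id _) hΛ (isEquivOver_id _) (Iso.refl _) h'
  · intro hc
    have h' : RepByAlgSpWith AlgSp.IsAffineMor
        (FibCat.fpFst (cmpM (quotMap Scheme.fppfPrecoverage G aX)
          (quotMap Scheme.fppfPrecoverage G aX)
          (FibCat.toSelf (QuotSt Scheme.fppfPrecoverage G aX)))
          (FibCat.diag (FibCat.toSelf (QuotSt Scheme.fppfPrecoverage G aX)))) :=
      repByAlgSpWith_of_square' AlgSp.IsAffineMor _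
        (cmp (quotMap Scheme.fppfPrecoverage G aX) (quotMap Scheme.fppfPrecoverage G aX)
          (FibCat.toSelf (QuotSt Scheme.fppfPrecoverage G aX)))
        (cmpΛ (quotMap Scheme.fppfPrecoverage G aX) (quotMap Scheme.fppfPrecoverage G aX)
          (FibCat.toSelf (QuotSt Scheme.fppfPrecoverage G aX)))
        (BasedFunctor.id _) hΛ (isEquivOver_id _) (Iso.refl _) hc
    have hfp : Stk.IsStack (AlgSp.J S)
        (FibCat.fp (FibCat.toSelf (QuotSt Scheme.fppfPrecoverage G aX))
          (FibCat.toSelf (QuotSt Scheme.fppfPrecoverage G aX))) :=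
      isStack_fp _ _ (AlgSp.J S) hst hst (isPrestack_selfOver _)
    have := diag_faithful (FibCat.toSelf (QuotSt Scheme.fppfPrecoverage G aX))
    exact repByAlgSpWith_isAffineMor_of_fppf_cover hst (isPrestack_of_isStack hfp)
      (isFibGrpd_fp _ _ h𝒰 h𝒰 h𝒯) _ _
      (repByAlgSpWith_cmpM calc_flat h𝒰 h𝒰 hst.1 h𝒯 _ _ _ (quotMap_flat' G X aX)
        (quotMap_flat' G X aX))
      (repByAlgSpWith_cmpM calc_lfp h𝒰 h𝒰 hst.1 h𝒯 _ _ _ (quotMap_lfp' G X aX)
        (quotMap_lfp' G X aX))
      (repByAlgSpWith_cmpM calc_surj h𝒰 h𝒰 hst.1 h𝒯 _ _ _ (quotMap_surjective' G X aX)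
        (quotMap_surjective' G X aX)) h'

end Groth.Agent.H64.Aff
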