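import Groth.Agent.H64.Aff.QuotIncl
import Groth.Agent.H64.Aff.QuotDiag
import Groth.Agent.H65.AlgStDiagComp
import Groth.Agent.H65.AlgStImmNoeth
import Groth.Agent.H64.Psh.DiagOfComp
import Groth.Agent.H32.Diag

set_option autoImplicit false
universe u
open CategoryTheory CategoryTheory.Limits MonoidalCategory CartesianMonoidalCategory
  AlgebraicGeometry

/-! The diagonal of a full subcategory has every property the diagonal of the ambient category
has; the affine diagonal of the quotient stack for étale torsors. -/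

namespace Groth.Agent.H64.Aff

open AlgSt Groth.Agent.H32 Groth.Agent.H64 Groth.Agent.H64.PTh Groth.Agent.H65.AlgStCmp
  Groth.Agent.H64.Quot

variable {S : Scheme.{u}}

theorem repByAlgSpWith_diag_toSelf_of_fullyFaithful (P : MorphismProperty (AlgSp.Sp S))
    {𝒳' 𝒳 : AlgSt.Cat S} (h𝒳' : FibCat.IsFibGrpd 𝒳'.p) (h𝒳 : FibCat.IsFibGrpd 𝒳.p)
    (ι : 𝒳' ⥤ᵇ 𝒳) [ι.toFunctor.Full] [ι.toFunctor.Faithful]
    (h : RepByAlgSpWith P (FibCat.diag (FibCat.toSelf 𝒳))) :
    RepByAlgSpWith P (FibCat.diag (FibCat.toSelf 𝒳')) := by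
  rw [toSelf_eq_comp ι]
  have h1 : RepByAlgSpWith P (cmp ι ι (FibCat.toSelf 𝒳)) :=
    repByAlgSpWith_cmp P h𝒳' h𝒳' h𝒳 (isFibGrpd_selfOver _) ι ι _ h
  have h2 := Groth.Agent.H65.AlgStImmNoeth.repByAlgSpWith_equiv_comp P (FibCat.diag ι)
    (isEquivOver_diag_of_fullyFaithful ι) _ h1
  exact repByAlgSpWith_of_iso (Groth.Agent.H65.AlgStDiagComp.diagCompIso ι _).symm h2

/-- the quotient stack of étale-locally trivial torsors has affine diagonal when `X` does -/
theorem repByAlgSpWith_diag_quotSt_etale (G : Over S) [GrpObj G] [Smooth G.hom]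
    [IsAffineHom G.hom] (X : Over S) (aX : AlgGrp.Action G X)
    (hX : IsAffineHom (pullback.diagonal X.hom)) :
    RepByAlgSpWith AlgSp.IsAffineMor
      (FibCat.diag (FibCat.toSelf (QuotSt Scheme.etalePrecoverage G aX))) := by
  have hfppf : RepByAlgSpWith AlgSp.IsAffineMor
      (FibCat.diag (FibCat.toSelf (QuotSt Scheme.fppfPrecoverage G aX))) :=
    (repByAlgSpWith_diag_quotSt_iff_actSnd G X aX).2 (isAffineHom_actSnd_of_diagonal aX hX)
  have := etale_hasIsos.{u}
  have := etale_comp.{u}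
  have := etale_hasPullbacks.{u}
  have := etale_bc.{u}
  exact repByAlgSpWith_diag_toSelf_of_fullyFaithful _
    (isFibGrpd_quotSt (K := Scheme.etalePrecoverage) (G := G) (aX := aX))
    (isFibGrpd_quotSt (K := Scheme.fppfPrecoverage) (G := G) (aX := aX))
    (quotIncl etale_le_fppf aX) hfppf

end Groth.Agent.H64.Aff
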