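import Groth.Agent.H64.Aff.Chart
import Groth.Agent.H64.Aff.Refine
import Groth.Agent.H64.Psh.SmoothLoc2
import Groth.Agent.H50.AffineLocal
import Groth.Agent.H51.SpAffine
import Groth.Agent.H51.SpFinite
import Groth.Agent.H49.AlgSpRep
import Groth.Agent.H64.Psh.PSource2

set_option autoImplicit false
open CategoryTheory CategoryTheory.Limits Opposite AlgebraicGeometry
universe u

/-! Affineness of a faithful morphism of stacks descends along fppf covers of the target,
including the representability. -/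

namespace Groth.Agent.H64.Aff

open Groth.Agent.H32 Groth.Agent.H64 Groth.Agent.H64.Recog Groth.Agent.H64.FpRep
  Groth.Agent.H64.PTh AlgSt

variable {S : Scheme.{u}}

/-- the functor of a composite section -/
theorem nonempty_iso_ofSection_comp {T Z : AlgSp.Sp S} {T' : Over S}
    (p₀ : (AlgSp.yon S).obj T' ⟶ T) (t : T ⟶ Z) :
    Nonempty (BasedFunctor.comp (ofSection (uliftYonedaEquiv.{u+1} p₀.hom)) (ofSpMap t) ≅
      (ofSection (uliftYonedaEquiv.{u+1} (p₀ ≫ t).hom) : FibCat.overCat T' ⥤ᵇ ofSp Z)) := by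
  apply nonempty_biso_of_bsec_eq
  intro a
  refine Eq.trans ?_ (bsec_ofSection _ a).symm
  have h0 : bsec (BasedFunctor.comp (ofSection (uliftYonedaEquiv.{u+1} p₀.hom)) (ofSpMap t)) a =
      t.hom.app (op a.left) (T.obj.map a.hom.op (uliftYonedaEquiv.{u+1} p₀.hom)) :=
    secAt_rfl Z.obj _
  rw [h0]
  have h1 : uliftYonedaEquiv.{u+1} (p₀ ≫ t).hom =
      t.hom.app (op T') (uliftYonedaEquiv.{u+1} p₀.hom) := rfl
  rw [h1]
  exact NatTrans.naturality_apply t.hom a.hom.op _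

/-- **Descent of affineness along an fppf cover of the target**: a faithful morphism `f` from a
stack to a prestack is representable by algebraic spaces and affine as soon as its base change
along an fppf covering `w` of the target is. -/
theorem repByAlgSpWith_isAffineMor_of_fppf_cover {𝒳 𝒴 𝒲 : AlgSt.Cat S}
    (h𝒳 : Stk.IsStack (AlgSp.J S) 𝒳) (h𝒴 : Stk.IsPrestack (AlgSp.J S) 𝒴)
    (h𝒲 : FibCat.IsFibGrpd 𝒲.p) (f : 𝒳 ⥤ᵇ 𝒴) [f.toFunctor.Faithful] (w : 𝒲 ⥤ᵇ 𝒴)
    (hw₁ : RepByAlgSpWith (AlgSp.LocP @Flat) w)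
    (hw₂ : RepByAlgSpWith (AlgSp.LocP @LocallyOfFinitePresentation) w)
    (hw₃ : RepByAlgSpWith AlgSp.IsSurjectiveMor w)
    (h' : RepByAlgSpWith AlgSp.IsAffineMor (FibCat.fpFst w f)) :
    RepByAlgSpWith AlgSp.IsAffineMor f := by
  apply repByAlgSpWith_of_hasP f
  intro U z
  obtain ⟨V₀, a₀, eV, heV, ⟨αV⟩⟩ := exists_sheaf_presentation h𝒳 h𝒴 f (yonSpace U).obj z
  obtain ⟨T, t, eT, heT, ⟨αT⟩, hflat⟩ := hasP_of_repByAlgSpWith h𝒲 h𝒴.1
    (stableBC_locP Groth.Agent.H50.goodClass_flat) isLocalOnBase_fppf_flat w hw₁ (yonSpace U) z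
  have hlfp := prop_of_presentation h𝒲 h𝒴.1 (stableBC_locP Groth.Agent.H50.goodClass_lfp)
    isLocalOnBase_fppf_lfp w hw₂ (yonSpace U) z T t eT heT αT
  have hsurj := prop_of_presentation h𝒲 h𝒴.1 stableBC_surj isLocalOnBase_fppf_surj w hw₃
    (yonSpace U) z T t eT heT αT
  obtain ⟨T', p₀, hpE, hpS⟩ := T.property.atlas
  let t₀ : T.obj ⟶ (AlgSp.yon S).obj U := t.hom
  let p : (AlgSp.yon S).obj T' ⟶ (AlgSp.yon S).obj U := p₀ ≫ t₀
  let s₀ : FibCat.overCat T' ⥤ᵇ ofSp T.obj := ofSection (uliftYonedaEquiv.{u+1} p₀.hom)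
  let y' : FibCat.overCat T' ⥤ᵇ 𝒲 :=
    BasedFunctor.comp s₀ (BasedFunctor.comp eT (FibCat.fpSnd z w))
  obtain ⟨β⟩ := nonempty_iso_ofSection_comp p₀ t.hom
  let θ : BasedFunctor.comp (BasedFunctor.comp eT (FibCat.fpSnd z w)) w ≅
      BasedFunctor.comp (ofSpMap t.hom) z :=
    bwlIso eT (FibCat.fpIso z w).symm ≪≫ bwrIso αT z
  let ν : BasedFunctor.comp y' w ≅
      BasedFunctor.comp (ofSection (uliftYonedaEquiv.{u+1} p.hom)) z :=
    bwlIso s₀ θ ≪≫ bwrIso β z
  have hchart : AlgSp.IsAffineMor (pullback.snd a₀ p) :=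
    isAffineMor_pullback_snd_of_lift f w h' z a₀ eV heV αV p y' ν
  obtain ⟨τ, hτ⟩ := (AlgSp.yon S).map_surjective p
  have hτf : Flat τ.left :=
    hflat p₀ (𝟙 _) τ hpE (repWith_id_etale U) ((Category.comp_id _).trans hτ).symm
  have hτp : LocallyOfFinitePresentation τ.left :=
    hlfp p₀ (𝟙 _) τ hpE (repWith_id_etale U) ((Category.comp_id _).trans hτ).symm
  have hτs : Surjective τ.left := by
    apply surjective_of_isSurjectiveMor_yon_map
    rw [hτ]
    intro x
    obtain ⟨y, hy⟩ := hsurj x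
    obtain ⟨y₀, hy₀⟩ := Groth.Agent.H49.points_surjective_of_repWith_surjective p₀ hpS y
    refine ⟨y₀, ?_⟩
    show AlgSp.Points.map (p₀ ≫ t₀) y₀ = x
    rw [AlgSp.Points.map_comp, hy₀]
    exact hy
  have haff : AlgSp.IsAffineMor a₀ := by
    intro Zf hZf g
    obtain ⟨ga, hga⟩ := (AlgSp.yon S).map_surjective g
    have sq : IsPullback (pullback.fst ga τ).left (pullback.snd ga τ).left ga.left τ.left :=
      (IsPullback.of_hasPullback ga τ).map (Over.forget S)
    have hvf : Flat (pullback.fst ga τ).left := MorphismProperty.of_isPullback sq.flip hτf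
    have hvp : LocallyOfFinitePresentation (pullback.fst ga τ).left :=
      MorphismProperty.of_isPullback sq.flip hτp
    have hvs : Surjective (pullback.fst ga τ).left := MorphismProperty.of_isPullback sq.flip hτs
    obtain ⟨Z', k, hZ', hfl, hfp, hsj⟩ :=
      exists_affine_fppf_refinement hZf (pullback.fst ga τ) hvf hvp hvs
    have hc : (k ≫ pullback.snd ga τ) ≫ τ = (k ≫ pullback.fst ga τ) ≫ ga := by
      rw [Category.assoc, Category.assoc, pullback.condition]
    have hc' : (AlgSp.yon S).map (k ≫ pullback.snd ga τ) ≫ (AlgSp.yon S).map τ =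
        (AlgSp.yon S).map (k ≫ pullback.fst ga τ) ≫ (AlgSp.yon S).map ga := by
      rw [← Functor.map_comp, ← Functor.map_comp, hc]
    have hb : (AlgSp.yon S).map (k ≫ pullback.snd ga τ) ≫ p =
        (AlgSp.yon S).map (k ≫ pullback.fst ga τ) ≫ g :=
      (congrArg (fun q => (AlgSp.yon S).map (k ≫ pullback.snd ga τ) ≫ q) hτ.symm).trans
        (hc'.trans (congrArg (fun q => (AlgSp.yon S).map (k ≫ pullback.fst ga τ) ≫ q) hga))
    exact Groth.Agent.H50.exists_affine_pullback_of_fppf_local a₀ hZf hZ' g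
      (k ≫ pullback.fst ga τ) hfl hfp hsj p (k ≫ pullback.snd ga τ) hb
      (pullback.fst a₀ p) (pullback.snd a₀ p) (IsPullback.of_hasPullback a₀ p) hchart
  have hV₀ : AlgSp.IsAlgSpace V₀ :=
    Groth.Agent.H49.isAlgSpace_of_representable_to a₀
      (Groth.Agent.H51.representable_of_isAffineMor haff) (AlgSp.IsAlgSpace.yon_obj U)
  exact ⟨⟨V₀, hV₀⟩, ObjectProperty.homMk a₀, eV, heV, ⟨αV⟩, haff⟩

end Groth.Agent.H64.Aff
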