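import Groth.Agent.H64.Psh.Recog
import Groth.Agent.H64.FpSetoid
import Groth.Agent.H64.Stk.SelfPrestack
import Groth.Agent.H64.Stk.OfPsh
import Groth.Agent.H64.Quot.ActSq2

set_option autoImplicit false
universe u
open CategoryTheory CategoryTheory.Limits MonoidalCategory CartesianMonoidalCategory
  AlgebraicGeometry Opposite

/-! The category of a product of schemes is the 2-fibre product over the base. -/

namespace Groth.Agent.H64.Aff

open AlgSt Groth.Agent.H32 Groth.Agent.H64 Groth.Agent.H64.Recog Groth.Agent.H64.Quot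

variable {S : Scheme.{u}} (A B : Over S)
  (u : ofSch A ⥤ᵇ FibCat.selfOver (Over S)) (v : ofSch B ⥤ᵇ FibCat.selfOver (Over S))

theorem eq_id_of_fac {C : Type*} [Category C] {T : C} (f : T ⟶ T) (h1 h2 : T = T)
    (h : f = eqToHom h1 ≫ 𝟙 T ≫ eqToHom h2) : f = 𝟙 T := by
  simpa using h

/-- the (unique) 2-isomorphism of the product square -/
noncomputable def prodIso :
    BasedFunctor.comp (ofSpMap ((AlgSp.yon S).map (fst A B))) u ≅
      BasedFunctor.comp (ofSpMap ((AlgSp.yon S).map (snd A B))) v :=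
  (self_biso_nonempty _ _).some

/-- the comparison functor `A × B ⟶ A ×_{(Sch/S)} B` -/
noncomputable def prodLift : ofSch (A ⊗ B) ⥤ᵇ FibCat.fp u v :=
  FibCat.fpLift (ofSpMap ((AlgSp.yon S).map (fst A B))) (ofSpMap ((AlgSp.yon S).map (snd A B)))
    (prodIso A B u v)

theorem isEquivOver_prodLift : FibCat.IsEquivOver (prodLift A B u v) := by
  have hs : FibCat.IsFibSetoid (FibCat.fp u v).p :=
    isFibSetoid_fp u v (isFibSetoid_ofPsh _) (isFibSetoid_ofPsh _) (isFibGrpd_selfOver _)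
  refine isEquivOver_of_ofPsh (prodLift A B u v) hs ?_ ?_
  · intro T s s' m hm
    obtain ⟨s⟩ := s
    obtain ⟨s'⟩ := s'
    have h1 : (ofSch A).p.IsHomLift (𝟙 T) m.hom.fst := fp_fst_isHomLift u v m (𝟙 T)
    have h2 : (ofSch B).p.IsHomLift (𝟙 T) m.hom.snd := fp_snd_isHomLift u v m (𝟙 T)
    have hf1 : m.hom.fst.hom = 𝟙 T :=
      eq_id_of_fac (T := T) m.hom.fst.hom _ _ (IsHomLift.fac' (ofSch A).p (𝟙 T) m.hom.fst)
    have hf2 : m.hom.snd.hom = 𝟙 T :=
      eq_id_of_fac (T := T) m.hom.snd.hom _ _ (IsHomLift.fac' (ofSch B).p (𝟙 T) m.hom.snd)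
    have e1 := m.hom.fst.map_sec
    have e2 := m.hom.snd.map_sec
    rw [hf1] at e1
    rw [hf2] at e2
    have e1' : 𝟙 T ≫ s' ≫ fst A B = s ≫ fst A B := congrArg ULift.down e1
    have e2' : 𝟙 T ≫ s' ≫ snd A B = s ≫ snd A B := congrArg ULift.down e2
    rw [Category.id_comp] at e1' e2'
    congr 1
    exact (CartesianMonoidalCategory.hom_ext _ _ e1' e2').symm
  · intro w
    obtain ⟨⟨⟨T, ⟨a⟩⟩, ⟨T', ⟨b⟩⟩, i⟩, hw⟩ := w
    change T ⟶ A at a
    change T' ⟶ B at b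
    have hw' : (FibCat.selfOver (Over S)).p.IsHomLift (𝟙 T) i.hom := hw
    have hT0 : (FibCat.selfOver (Over S)).p.obj (v.obj ⟨T', ⟨b⟩⟩) = T :=
      IsHomLift.codomain_eq (FibCat.selfOver (Over S)).p (𝟙 T) i.hom
    have hT : T' = T := (v.w_obj ⟨T', ⟨b⟩⟩).symm.trans hT0
    subst hT
    refine ⟨⟨lift a b⟩, ?_⟩
    let e₁ := eltIso (P := ((AlgSp.yon S).obj A).obj) T' ⟨lift a b ≫ fst A B⟩ ⟨a⟩
      (congrArg ULift.up (lift_fst _ _))
    let e₂ := eltIso (P := ((AlgSp.yon S).obj B).obj) T' ⟨lift a b ≫ snd A B⟩ ⟨b⟩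
      (congrArg ULift.up (lift_snd _ _))
    have he₁ : (ofSch A).p.IsHomLift (𝟙 T') e₁.hom :=
      IsHomLift.map (Stk.EltObj.forget ((AlgSp.yon S).obj A).obj) e₁.hom
    have he₂ : (ofSch B).p.IsHomLift (𝟙 T') e₂.hom :=
      IsHomLift.map (Stk.EltObj.forget ((AlgSp.yon S).obj B).obj) e₂.hom
    have hu : (FibCat.selfOver (Over S)).p.IsHomLift (𝟙 T') (u.map e₁.hom) :=
      BasedFunctor.preserves_isHomLift u _ _
    have hv : (FibCat.selfOver (Over S)).p.IsHomLift (𝟙 T') (v.map e₂.hom) :=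
      BasedFunctor.preserves_isHomLift v _ _
    have hι : (FibCat.selfOver (Over S)).p.IsHomLift (𝟙 T')
        (bapp (prodIso A B u v).hom ⟨T', ⟨lift a b⟩⟩) :=
      bapp_isHomLift (prodIso A B u v).hom ⟨T', ⟨lift a b⟩⟩
    let m := fpHomMk u v (z := (prodLift A B u v).obj ⟨T', ⟨lift a b⟩⟩)
      (z' := ⟨⟨⟨T', ⟨a⟩⟩, ⟨T', ⟨b⟩⟩, i⟩, hw⟩) e₁.hom e₂.hom (by
        have hL := lift_id_comp_id (FibCat.selfOver (Over S)).p hu hw'
        have hR := lift_id_comp_id (FibCat.selfOver (Over S)).p hι hv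
        exact @Groth.Agent.H26.self_hom_ext _ _ _ _ (𝟙 T') _ _ _ _ hL hR)
    refine ⟨m, ?_⟩
    exact @fp_isHomLift_of_fst _ _ _ _ _ u v _ _ m _ _ (𝟙 T') he₁

end Groth.Agent.H64.Aff
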