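import Groth.Agent.H64.Quot.FibGrpd
import Mathlib.AlgebraicGeometry.Sites.Etale
import Mathlib.AlgebraicGeometry.Morphisms.Etale
import Mathlib.AlgebraicGeometry.Sites.Fpqc

set_option autoImplicit false
set_option backward.isDefEq.respectTransparency false
universe u
open CategoryTheory CategoryTheory.Limits MonoidalCategory CartesianMonoidalCategory
  AlgebraicGeometry

/-! The quotient stack for a finer topology is a full subcategory of the quotient stack for a
coarser one. -/

namespace Groth.Agent.H64.Aff

open AlgSt

theorem etale_hasIsos : Scheme.etalePrecoverage.{u}.HasIsos := by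
  unfold Scheme.etalePrecoverage; infer_instance

theorem etale_comp : Scheme.etalePrecoverage.{u}.IsStableUnderComposition := by
  unfold Scheme.etalePrecoverage; infer_instance

theorem etale_hasPullbacks : Scheme.etalePrecoverage.{u}.HasPullbacks := by
  unfold Scheme.etalePrecoverage; infer_instance

theorem etale_bc : Scheme.etalePrecoverage.{u}.IsStableUnderBaseChange := by
  unfold Scheme.etalePrecoverage; infer_instance

theorem etale_le_fppf : Scheme.etalePrecoverage.{u} ≤ Scheme.fppfPrecoverage :=
  Scheme.precoverage_mono fun _ _ f hf => by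
    have : Etale f := hf
    exact ⟨inferInstance, inferInstance⟩

variable {S : Scheme.{u}} {K K' : Precoverage Scheme.{u}} (hK : K ≤ K') {G : Over S} [GrpObj G]
  {X : Over S} (aX : AlgGrp.Action G X)

/-- an object of `[X/G]` for `K` is one for every coarser `K'` -/
def inclObj (A : QuotObj K G aX) : QuotObj K' G aX where
  base := A.base
  P := A.P
  act := A.act
  π := A.π
  cart := A.cart
  loc := by
    obtain ⟨R, hR, h⟩ := A.loc
    exact ⟨R, hK _ hR, h⟩
  φ := A.φ
  eqv := A.eqv

/-- the inclusion `[X/G]_K ⟶ [X/G]_{K'}` -/
def quotIncl : QuotSt K G aX ⥤ᵇ QuotSt K' G aX where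
  toFunctor :=
    { obj := inclObj hK aX
      map := fun {_ _} f =>
        { base := f.base
          top := f.top
          eqv := f.eqv
          cart := f.cart
          wφ := f.wφ }
      map_id := fun _ => rfl
      map_comp := fun _ _ => rfl }
  w := rfl

instance quotIncl_faithful : (quotIncl hK aX).toFunctor.Faithful :=
  ⟨fun {_ _} f g h => by
    have h1 : ((quotIncl hK aX).map f).base = ((quotIncl hK aX).map g).base := by rw [h]
    have h2 : ((quotIncl hK aX).map f).top = ((quotIncl hK aX).map g).top := by rw [h]
    exact QuotObj.hom_ext h1 h2⟩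

instance quotIncl_full : (quotIncl hK aX).toFunctor.Full :=
  ⟨fun {_ _} f => ⟨{ base := f.base, top := f.top, eqv := f.eqv, cart := f.cart, wφ := f.wφ },
    rfl⟩⟩

end Groth.Agent.H64.Aff
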