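import Groth.Agent.H64.Psh.PDescent
import Groth.Agent.H64.Fib.SetoidSet
import Groth.Agent.H64.FpSetoid
import Groth.Agent.H64.Stk.FpSwap
import Groth.Agent.H64.Stk.EquivOver
import Groth.Agent.H64.Stk.PshStack
import Groth.Agent.H64.Stk.OfPsh

set_option autoImplicit false
open CategoryTheory CategoryTheory.Limits Opposite AlgebraicGeometry
universe u

/-! A stack fibred in setoids over `(Sch/S)` is the category of a sheaf; presentations of the base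
change of a faithful morphism of stacks by sheaves. -/

namespace Groth.Agent.H64.Aff

open Groth.Agent.H32 Groth.Agent.H64 Groth.Agent.H64.Recog Groth.Agent.H64.FpRep
  Groth.Agent.H64.PTh AlgSt

variable {S : Scheme.{u}}

/-- a stack fibred in setoids is equivalent to the category of a sheaf -/
theorem exists_sheaf_of_stack_setoid {𝒵 : AlgSt.Cat S} (hs : FibCat.IsFibSetoid 𝒵.p)
    (hst : Stk.IsStack (AlgSp.J S) 𝒵) :
    ∃ (V : AlgSp.Sp S) (e : ofSp V ⥤ᵇ 𝒵), FibCat.IsEquivOver e := by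
  have heq := SetoidSet.isEquivOver_toOfPsh hs.1 hs.2
  have h1 : Stk.IsStack (AlgSp.J S) (Stk.ofPsh (SetoidSet.psh hs.1)) :=
    (isStack_iff_of_isEquivOver (AlgSp.J S) heq).1 hst
  have h2 : Presieve.IsSheaf (AlgSp.J S) (SetoidSet.psh hs.1) :=
    (isStack_ofPsh_iff_isSheaf (AlgSp.J S) _).1 h1
  obtain ⟨d⟩ := IsEquivOver.nonempty_data heq
  exact ⟨⟨SetoidSet.psh hs.1, (isSheaf_iff_isSheaf_of_type _ _).2 h2⟩, d.inv,
    ⟨SetoidSet.toOfPsh hs.1, ⟨d.counit⟩, ⟨d.unit⟩⟩⟩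

/-- the category of a sheaf is a stack -/
theorem isStack_ofSp (Z : AlgSp.Sp S) : Stk.IsStack (AlgSp.J S) (ofSp Z) :=
  (isStack_ofPsh_iff_isSheaf (AlgSp.J S) _).2 ((isSheaf_iff_isSheaf_of_type _ _).1 Z.2)

/-- the base change of a faithful morphism of stacks to a sheaf is presented by a sheaf -/
theorem exists_sheaf_presentation {𝒳 𝒴 : AlgSt.Cat S} (h𝒳 : Stk.IsStack (AlgSp.J S) 𝒳)
    (h𝒴 : Stk.IsPrestack (AlgSp.J S) 𝒴) (f : 𝒳 ⥤ᵇ 𝒴) [f.toFunctor.Faithful] (Z : AlgSp.Sp S)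
    (z : ofSp Z ⥤ᵇ 𝒴) :
    ∃ (V : AlgSp.Sp S) (a : V ⟶ Z) (e : ofSp V ⥤ᵇ FibCat.fp z f), FibCat.IsEquivOver e ∧
      Nonempty (BasedFunctor.comp e (FibCat.fpFst z f) ≅ ofSpMap a) := by
  have hst : Stk.IsStack (AlgSp.J S) (FibCat.fp z f) :=
    isStack_fp z f (AlgSp.J S) (isStack_ofSp Z) h𝒳 h𝒴
  have hs0 : FibCat.IsFibSetoid (FibCat.fp f z).p :=
    isFibSetoid_fp_of_faithful f z h𝒴.1 h𝒳.1 (isFibSetoid_ofPsh Z.obj)
  obtain ⟨d⟩ := IsEquivOver.nonempty_data (isEquivOver_fpSwap f z)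
  have hs : FibCat.IsFibSetoid (FibCat.fp z f).p := isFibSetoid_of_equivOverData d hs0
  obtain ⟨V, e, he⟩ := exists_sheaf_of_stack_setoid hs hst
  let Pr : ofSp V ⥤ᵇ ofSp Z := BasedFunctor.comp e (FibCat.fpFst z f)
  obtain ⟨β⟩ := nonempty_iso_ofPshMap Pr
  exact ⟨V, ObjectProperty.homMk (pshMapOf Pr), e, he, ⟨β.symm⟩⟩

end Groth.Agent.H64.Aff
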